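import Groth.Agent.Lib.HTopLim9.Site
import Groth.Agent.S9183
import Groth.Agent.S7291
import Mathlib.CategoryTheory.Limits.Constructions.Over.Connected
import Mathlib.CategoryTheory.Filtered.Connected

/-!
# h sheaves which are limit preserving are V sheaves
-/

set_option autoImplicit false

universe w u

open CategoryTheory CategoryTheory.Limits AlgebraicGeometry Opposite HTop

namespace Groth.Agent.HTopLim9

/-- A morphism of affine schemes is a cofiltered limit of finitely presented affine ones. -/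
theorem exists_system {U V : Scheme.{u}} [IsAffine U] [IsAffine V] (f : V ⟶ U) :
    ∃ (I : Type u) (_ : SmallCategory I) (_ : IsCofiltered I) (D : I ⥤ Over U) (c : Cone D)
      (_ : IsLimit ((Over.forget U).mapCone c)), c.pt = Over.mk f ∧
      (∀ i, IsAffine (D.obj i).left) ∧ ∀ i, LocallyOfFinitePresentation (D.obj i).hom := by
  letI := f.appTop.hom.toAlgebra
  obtain ⟨I, _, _, D₀, c₀, hc₀, hfp, ⟨e⟩⟩ := Groth.Agent.S9183.result Γ(U, ⊤) Γ(V, ⊤)
  haveI := IsFiltered.isConnected I
  let D₁ : I ⥤ CommRingCat.{u} := D₀ ⋙ Under.forget _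
  let d₁ : Cocone D₁ := (Under.forget _).mapCocone c₀
  have hd₁ : IsColimit d₁ := isColimitOfPreserves _ hc₀
  let D : Iᵒᵖ ⥤ Over U :=
    { obj := fun i => Over.mk (Spec.map (D₀.obj i.unop).hom ≫ U.isoSpec.inv)
      map := fun {i j} a => Over.homMk (Spec.map (D₀.map a.unop).right) (by
        show Spec.map (D₀.map a.unop).right ≫ Spec.map (D₀.obj j.unop).hom ≫ U.isoSpec.inv =
          Spec.map (D₀.obj i.unop).hom ≫ U.isoSpec.inv
        rw [← Spec.map_comp_assoc, Under.w])
      map_id := fun i => Over.OverMorphism.ext (by simp)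
      map_comp := fun {i j k} a b => Over.OverMorphism.ext (by simp [Spec.map_comp]) }
  let t : V ⟶ Spec c₀.pt.right := V.isoSpec.hom ≫ Spec.map e.hom.right
  haveI : IsIso e.hom.right := inferInstanceAs (IsIso ((Under.forget _).map e.hom))
  have ht : t ≫ Spec.map c₀.pt.hom ≫ U.isoSpec.inv = f := by
    show (V.isoSpec.hom ≫ Spec.map e.hom.right) ≫ _ = _
    rw [Category.assoc, ← Spec.map_comp_assoc, Under.w e.hom]
    show V.isoSpec.hom ≫ Spec.map f.appTop ≫ U.isoSpec.inv = f
    rw [← Category.assoc, Scheme.isoSpec_hom_naturality, Category.assoc, Iso.hom_inv_id, Category.comp_id]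
  let c : Cone D :=
    { pt := Over.mk f
      π :=
        { app := fun i => Over.homMk (t ≫ Spec.map (c₀.ι.app i.unop).right) (by
            show (t ≫ Spec.map (c₀.ι.app i.unop).right) ≫ Spec.map (D₀.obj i.unop).hom ≫ U.isoSpec.inv = f
            rw [Category.assoc, ← Spec.map_comp_assoc, Under.w]
            exact ht)
          naturality := fun i j a => Over.OverMorphism.ext (by
            show 𝟙 V ≫ t ≫ Spec.map (c₀.ι.app j.unop).right =
              (t ≫ Spec.map (c₀.ι.app i.unop).right) ≫ Spec.map (D₀.map a.unop).right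
            refine (Category.id_comp _).trans ((congrArg (t ≫ Spec.map ·)
              (congrArg CommaMorphism.right (c₀.w a.unop))).symm.trans ?_)
            exact (congrArg (t ≫ ·) (Spec.map_comp _ _)).trans (Category.assoc _ _ _).symm) } }
  refine ⟨Iᵒᵖ, inferInstance, inferInstance, D, c, ?_, rfl, fun i => inferInstanceAs (IsAffine (Spec _)), fun i => ?_⟩
  · haveI : IsIso t := inferInstanceAs (IsIso (V.isoSpec.hom ≫ Spec.map e.hom.right))
    exact IsLimit.ofIsoLimit (isLimitOfPreserves Scheme.Spec hd₁.op)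
      (Cone.ext (asIso t).symm fun i => ((IsIso.inv_hom_id_assoc t (Spec.map (c₀.ι.app i.unop).right)).symm :
        Spec.map (c₀.ι.app i.unop).right = inv t ≫ t ≫ Spec.map (c₀.ι.app i.unop).right))
  · show LocallyOfFinitePresentation (Spec.map (D₀.obj i.unop).hom ≫ U.isoSpec.inv)
    haveI : LocallyOfFinitePresentation (Spec.map (D₀.obj i.unop).hom) :=
      (HasRingHomProperty.Spec_iff (P := @LocallyOfFinitePresentation)).2 (hfp i.unop)
    infer_instance

theorem pullback_map_comp {A B C Bs : Scheme.{u}} (a : A ⟶ Bs) (b : B ⟶ Bs) (c : C ⟶ Bs) (g : A ⟶ B) (h : B ⟶ C)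
    (k : A ⟶ C) (hk : k = g ≫ h) (w₁ : a ≫ 𝟙 Bs = k ≫ c) (w₂ : a ≫ 𝟙 Bs = g ≫ b) (w₃ : b ≫ 𝟙 Bs = h ≫ c) :
    pullback.map a a c c k k (𝟙 Bs) w₁ w₁ =
      pullback.map a a b b g g (𝟙 Bs) w₂ w₂ ≫ pullback.map b b c c h h (𝟙 Bs) w₃ w₃ := by
  subst hk
  apply pullback.hom_ext
  · exact (pullback.lift_fst _ _ _).trans ((Category.assoc _ _ _).trans ((congrArg (_ ≫ ·) (pullback.lift_fst _ _ _)).trans
      ((pullback.lift_fst_assoc _ _ _ _).trans (Category.assoc _ _ _)))).symm
  · exact (pullback.lift_snd _ _ _).trans ((Category.assoc _ _ _).trans ((congrArg (_ ≫ ·) (pullback.lift_snd _ _ _)).trans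
      ((pullback.lift_snd_assoc _ _ _ _).trans (Category.assoc _ _ _)))).symm

variable {S : Scheme.{u}} {F : (Over S)ᵒᵖ ⥤ Type w}

theorem isSheafFor_singleton (hF : IsHSheafOver S F)
    (hlim : ∀ (I : Type u) [SmallCategory I] [IsCofiltered I] (D : I ⥤ Over S),
      (∀ i, IsAffine (D.obj i).left) → ∀ (c : Cone D), IsLimit ((Over.forget S).mapCone c) →
        Nonempty (IsColimit (F.mapCocone c.op)))
    (U : Over S) (V : Scheme.{u}) (f : V ⟶ U.left) (hf : IsStandardV (PreZeroHypercover.singleton.{u} f)) :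
    (lift₀ U (PreZeroHypercover.singleton.{u} f)).presieve₀.IsSheafFor F := by
  haveI : IsAffine U.left := hf.isAffine
  haveI : IsAffine V := hf.isAffine_obj PUnit.unit
  obtain ⟨I, _, _, D, c, hc, hpt, haff, hlfp⟩ := exists_system f
  haveI := haff
  have hV : IsStandardV (PreZeroHypercover.singleton.{u} c.pt.hom) := by
    rw [hpt]; exact hf
  have hD : ∀ i, (lift₀ U (PreZeroHypercover.singleton.{u} (D.obj i).hom)).presieve₀.IsSheafFor F := fun i =>
    isSheafFor_of_isHCover hF U _ ⟨fun _ => hlfp i,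
      HTop26.IsStandardV.isVCover ((Groth.Agent.S7291.result D c hc).1 hV i)⟩
  simp only [PreZeroHypercover.presieve₀, lift₀] at hD ⊢
  let D' : I ⥤ Over S := D ⋙ Over.map U.hom
  let c' : Cone D' := (Over.map U.hom).mapCone c
  have hc' : IsLimit ((Over.forget S).mapCone c') := hc
  obtain ⟨hcol⟩ := hlim I D' (fun i => haff i) c' hc'
  let q : ∀ i, D'.obj i ⟶ U := fun i => Over.homMk (D.obj i).hom rfl
  let p : Over.mk (f ≫ U.hom) ⟶ U := Over.homMk f rfl
  have hpt' : c'.pt = Over.mk (f ≫ U.hom) := congrArg (Over.map U.hom).obj hpt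
  let π' : ∀ i, Over.mk (f ≫ U.hom) ⟶ D'.obj i := fun i => eqToHom hpt'.symm ≫ c'.π.app i
  have hπq : ∀ i, π' i ≫ q i = p := by
    intro i
    have h1 : c'.π.app i ≫ q i = (Over.homMk c.pt.hom rfl : c'.pt ⟶ U) :=
      Over.OverMorphism.ext (Over.w (c.π.app i))
    show (eqToHom hpt'.symm ≫ c'.π.app i) ≫ q i = p
    rw [Category.assoc, h1]
    revert hpt
    obtain ⟨P, π⟩ := c
    rintro rfl
    exact Category.id_comp _
  have hjoint : ∀ x : F.obj (op (Over.mk (f ≫ U.hom))), ∃ (i : I) (y : F.obj (op (D'.obj i))), F.map (π' i).op y = x := by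
    intro x
    obtain ⟨i, y, hy⟩ := Types.jointly_surjective_of_isColimit hcol (F.map (eqToHom hpt').op x)
    refine ⟨i.unop, y, ?_⟩
    show F.map (eqToHom hpt'.symm ≫ c'.π.app i.unop).op y = x
    rw [op_comp, Functor.map_comp_apply]
    refine (congrArg (F.map (eqToHom hpt'.symm).op) hy).trans ?_
    rw [← Functor.map_comp_apply, ← op_comp, eqToHom_trans, eqToHom_refl, op_id, F.map_id]
    rfl
  have hinj : ∀ (i : I) (y y' : F.obj (op (D'.obj i))), F.map (π' i).op y = F.map (π' i).op y' →
      ∃ (j : I) (a : j ⟶ i), F.map (D'.map a).op y = F.map (D'.map a).op y' := by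
    intro i y y' h
    have h' : F.map (c'.π.app i).op y = F.map (c'.π.app i).op y' := by
      have := congrArg (F.map (eqToHom hpt').op) h
      rwa [← Functor.map_comp_apply, ← Functor.map_comp_apply, ← op_comp,
        show eqToHom hpt' ≫ π' i = c'.π.app i from eqToHom_trans_assoc _ _ _ |>.trans (Category.id_comp _)] at this
    obtain ⟨j, a, ha⟩ := (Types.FilteredColimit.isColimit_eq_iff' hcol (i := op i) y y').1 h'
    exact ⟨j.unop, a.unop, ha⟩
  have hsingle : ∀ i, (Presieve.ofArrows (fun _ : PUnit.{u + 1} => D'.obj i) fun _ => q i).IsSheafFor F := hD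
  show (Presieve.ofArrows (fun _ : PUnit.{u + 1} => Over.mk (f ≫ U.hom)) fun _ => p).IsSheafFor F
  rw [Presieve.isSheafFor_arrows_iff]
  intro x hx
  have huniq : ∀ t t' : F.obj (op U), F.map p.op t = F.map p.op t' → t = t' := by
    intro t t' h
    obtain ⟨i₀⟩ : Nonempty I := IsCofiltered.nonempty
    obtain ⟨j, a, ha⟩ := hinj i₀ (F.map (q i₀).op t) (F.map (q i₀).op t') (by
      rw [← Functor.map_comp_apply, ← Functor.map_comp_apply, ← op_comp, hπq, h])
    refine (hsingle j).isSeparatedFor.ext ?_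
    rintro _ _ ⟨⟩
    have hqa : D'.map a ≫ q i₀ = q j := Over.OverMorphism.ext (Over.w (D.map a))
    rw [← hqa, op_comp, Functor.map_comp_apply, Functor.map_comp_apply, ha]
  -- the limit of the fibre squares
  let D₂ : I ⥤ Over S :=
    { obj := fun i => Over.mk (pullback.fst (D.obj i).hom (D.obj i).hom ≫ (D.obj i).hom ≫ U.hom)
      map := fun {i j} a => Over.homMk (pullback.map _ _ _ _ (D.map a).left (D.map a).left (𝟙 _)
          (by rw [Category.comp_id, Over.w]) (by rw [Category.comp_id, Over.w])) (by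
        show pullback.map _ _ _ _ _ _ _ _ _ ≫ pullback.fst (D.obj j).hom (D.obj j).hom ≫ (D.obj j).hom ≫ U.hom =
          pullback.fst (D.obj i).hom (D.obj i).hom ≫ (D.obj i).hom ≫ U.hom
        rw [pullback.lift_fst_assoc, Category.assoc, Over.w_assoc])
      map_id := fun i => Over.OverMorphism.ext (by apply pullback.hom_ext <;> simp)
      map_comp := fun {i j k} a b => Over.OverMorphism.ext
        (pullback_map_comp _ _ _ (D.map a).left (D.map b).left _ (by rw [D.map_comp]; rfl) (by rw [Category.comp_id, Over.w])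
          (by rw [Category.comp_id, Over.w]) (by rw [Category.comp_id, Over.w])) }
  let c₂ : Cone D₂ :=
    { pt := Over.mk (pullback.fst c.pt.hom c.pt.hom ≫ c.pt.hom ≫ U.hom)
      π :=
        { app := fun i => Over.homMk (pullback.map _ _ _ _ (c.π.app i).left (c.π.app i).left (𝟙 _)
            (by rw [Category.comp_id]; exact (Over.w _).symm) (by rw [Category.comp_id]; exact (Over.w _).symm)) (by
          show pullback.map _ _ _ _ _ _ _ _ _ ≫ pullback.fst (D.obj i).hom (D.obj i).hom ≫ (D.obj i).hom ≫ U.hom =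
            pullback.fst c.pt.hom c.pt.hom ≫ c.pt.hom ≫ U.hom
          rw [pullback.lift_fst_assoc, Category.assoc, Over.w_assoc]
          rfl)
          naturality := fun i j a => Over.OverMorphism.ext (by
            refine Eq.trans (Category.id_comp _) ?_
            exact pullback_map_comp _ _ _ (c.π.app i).left (D.map a).left _ (by rw [← Over.comp_left, c.w])
              (by rw [Category.comp_id]; exact (Over.w _).symm) (by rw [Category.comp_id]; exact (Over.w _).symm)
              (by rw [Category.comp_id, Over.w])) } }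
  have hc₂ : IsLimit ((Over.forget S).mapCone c₂) := by
    haveI : IsConnected I := IsCofiltered.isConnected I
    let i₀ : I := IsCofiltered.nonempty.some
    have hfst : ∀ s : Cone (D₂ ⋙ Over.forget S), ∀ {i j : I} (a : i ⟶ j),
        (s.π.app i ≫ pullback.fst (D.obj i).hom (D.obj i).hom) ≫ (D.map a).left =
          s.π.app j ≫ pullback.fst (D.obj j).hom (D.obj j).hom := fun s i j a => by
      rw [← s.w a]
      exact (Category.assoc _ _ _).trans ((congrArg (s.π.app i ≫ ·) (pullback.lift_fst _ _ _).symm).trans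
        (Category.assoc _ _ _).symm)
    have hsnd : ∀ s : Cone (D₂ ⋙ Over.forget S), ∀ {i j : I} (a : i ⟶ j),
        (s.π.app i ≫ pullback.snd (D.obj i).hom (D.obj i).hom) ≫ (D.map a).left =
          s.π.app j ≫ pullback.snd (D.obj j).hom (D.obj j).hom := fun s i j a => by
      rw [← s.w a]
      exact (Category.assoc _ _ _).trans ((congrArg (s.π.app i ≫ ·) (pullback.lift_snd _ _ _).symm).trans
        (Category.assoc _ _ _).symm)
    let K₁ : Cone (D₂ ⋙ Over.forget S) → Cone (D ⋙ Over.forget U.left) := fun s =>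
      { pt := s.pt
        π :=
          { app := fun i => s.π.app i ≫ pullback.fst (D.obj i).hom (D.obj i).hom
            naturality := fun i j a => (Category.id_comp _).trans (hfst s a).symm } }
    let K₂ : Cone (D₂ ⋙ Over.forget S) → Cone (D ⋙ Over.forget U.left) := fun s =>
      { pt := s.pt
        π :=
          { app := fun i => s.π.app i ≫ pullback.snd (D.obj i).hom (D.obj i).hom
            naturality := fun i j a => (Category.id_comp _).trans (hsnd s a).symm } }
    have hw : ∀ s, hc.lift (K₁ s) ≫ c.pt.hom = hc.lift (K₂ s) ≫ c.pt.hom := fun s => by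
      refine (congrArg (hc.lift (K₁ s) ≫ ·) (Over.w (c.π.app i₀)).symm).trans
        (Eq.trans ?_ (congrArg (hc.lift (K₂ s) ≫ ·) (Over.w (c.π.app i₀))))
      refine (Category.assoc _ _ _).symm.trans ((congrArg (· ≫ (D.obj i₀).hom) (hc.fac (K₁ s) i₀)).trans ?_)
      refine Eq.trans ?_ (((congrArg (· ≫ (D.obj i₀).hom) (hc.fac (K₂ s) i₀)).symm).trans (Category.assoc _ _ _))
      exact (Category.assoc _ _ _).trans ((congrArg (s.π.app i₀ ≫ ·) pullback.condition).trans (Category.assoc _ _ _).symm)
    exact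
      { lift := fun s => pullback.lift (hc.lift (K₁ s)) (hc.lift (K₂ s)) (hw s)
        fac := fun s i => by
          apply pullback.hom_ext
          · refine (Category.assoc _ _ _).trans ((congrArg (_ ≫ ·) (pullback.lift_fst _ _ _)).trans ?_)
            exact (pullback.lift_fst_assoc _ _ _ _).trans (hc.fac (K₁ s) i)
          · refine (Category.assoc _ _ _).trans ((congrArg (_ ≫ ·) (pullback.lift_snd _ _ _)).trans ?_)
            exact (pullback.lift_snd_assoc _ _ _ _).trans (hc.fac (K₂ s) i)
        uniq := fun s m hm => by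
          apply pullback.hom_ext
          · refine Eq.trans ?_ (pullback.lift_fst _ _ _).symm
            refine hc.uniq (K₁ s) _ fun i => ?_
            show (m ≫ pullback.fst c.pt.hom c.pt.hom) ≫ (c.π.app i).left = s.π.app i ≫ pullback.fst _ _
            rw [← hm i]
            exact (Category.assoc _ _ _).trans ((congrArg (m ≫ ·) (pullback.lift_fst _ _ _).symm).trans
              (Category.assoc _ _ _).symm)
          · refine Eq.trans ?_ (pullback.lift_snd _ _ _).symm
            refine hc.uniq (K₂ s) _ fun i => ?_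
            show (m ≫ pullback.snd c.pt.hom c.pt.hom) ≫ (c.π.app i).left = s.π.app i ≫ pullback.snd _ _
            rw [← hm i]
            exact (Category.assoc _ _ _).trans ((congrArg (m ≫ ·) (pullback.lift_snd _ _ _).symm).trans
              (Category.assoc _ _ _).symm) }
  obtain ⟨hcol₂⟩ := hlim I D₂ (fun i => inferInstanceAs (IsAffine (pullback (D.obj i).hom (D.obj i).hom))) c₂ hc₂
  obtain ⟨i, y, hy⟩ := hjoint (x PUnit.unit)
  let e₁ : ∀ i, D₂.obj i ⟶ D'.obj i := fun i => Over.homMk (pullback.fst (D.obj i).hom (D.obj i).hom) rfl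
  let e₂ : ∀ i, D₂.obj i ⟶ D'.obj i := fun i => Over.homMk (pullback.snd (D.obj i).hom (D.obj i).hom) (by
    show pullback.snd (D.obj i).hom (D.obj i).hom ≫ (D.obj i).hom ≫ U.hom =
      pullback.fst (D.obj i).hom (D.obj i).hom ≫ (D.obj i).hom ≫ U.hom
    rw [← pullback.condition_assoc])
  let g₁ : c₂.pt ⟶ c'.pt := Over.homMk (pullback.fst c.pt.hom c.pt.hom) rfl
  let g₂ : c₂.pt ⟶ c'.pt := Over.homMk (pullback.snd c.pt.hom c.pt.hom) (by
    show pullback.snd c.pt.hom c.pt.hom ≫ c.pt.hom ≫ U.hom = pullback.fst c.pt.hom c.pt.hom ≫ c.pt.hom ≫ U.hom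
    rw [← pullback.condition_assoc])
  have he₁ : c₂.π.app i ≫ e₁ i = g₁ ≫ c'.π.app i := Over.OverMorphism.ext (pullback.lift_fst _ _ _)
  have he₂ : c₂.π.app i ≫ e₂ i = g₂ ≫ c'.π.app i := Over.OverMorphism.ext (pullback.lift_snd _ _ _)
  have hy' : F.map (c'.π.app i).op y = F.map (eqToHom hpt').op (x PUnit.unit) := by
    rw [← hy, ← Functor.map_comp_apply, ← op_comp,
      show eqToHom hpt' ≫ π' i = c'.π.app i from eqToHom_trans_assoc _ _ _ |>.trans (Category.id_comp _)]
  have hg : (g₁ ≫ eqToHom hpt') ≫ p = (g₂ ≫ eqToHom hpt') ≫ p := by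
    have h1 : eqToHom hpt' ≫ p = (Over.homMk c.pt.hom rfl : c'.pt ⟶ U) := by
      revert hpt
      obtain ⟨P, π⟩ := c
      rintro rfl
      exact Category.id_comp _
    rw [Category.assoc, Category.assoc, h1]
    exact Over.OverMorphism.ext pullback.condition
  obtain ⟨j, a, ha⟩ := (Types.FilteredColimit.isColimit_eq_iff' hcol₂ (i := op i)
    (F.map (e₁ i).op y) (F.map (e₂ i).op y)).1 (by
      show F.map (c₂.π.app i).op (F.map (e₁ i).op y) = F.map (c₂.π.app i).op (F.map (e₂ i).op y)
      rw [← Functor.map_comp_apply, ← Functor.map_comp_apply, ← op_comp, ← op_comp, he₁, he₂, op_comp, op_comp,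
        Functor.map_comp_apply, Functor.map_comp_apply, hy', ← Functor.map_comp_apply, ← Functor.map_comp_apply,
        ← op_comp, ← op_comp]
      exact hx PUnit.unit PUnit.unit c₂.pt _ _ hg)
  let y' : F.obj (op (D'.obj j.unop)) := F.map (D'.map a.unop).op y
  have hcomp : Presieve.Arrows.Compatible F (fun _ : PUnit.{u + 1} => q j.unop) fun _ => y' := by
    rintro _ _ W h₁ h₂ he
    let l : W ⟶ D₂.obj j.unop := Over.homMk (pullback.lift h₁.left h₂.left (congrArg CommaMorphism.left he)) (by
      show pullback.lift h₁.left h₂.left _ ≫ pullback.fst _ _ ≫ (D.obj j.unop).hom ≫ U.hom = W.hom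
      exact (pullback.lift_fst_assoc _ _ _ _).trans (Over.w h₁))
    have hl₁ : l ≫ e₁ j.unop = h₁ := Over.OverMorphism.ext (pullback.lift_fst _ _ _)
    have hl₂ : l ≫ e₂ j.unop = h₂ := Over.OverMorphism.ext (pullback.lift_snd _ _ _)
    have k₁ : e₁ j.unop ≫ D'.map a.unop = D₂.map a.unop ≫ e₁ i := Over.OverMorphism.ext (pullback.lift_fst _ _ _).symm
    have k₂ : e₂ j.unop ≫ D'.map a.unop = D₂.map a.unop ≫ e₂ i := Over.OverMorphism.ext (pullback.lift_snd _ _ _).symm
    show F.map h₁.op y' = F.map h₂.op y'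
    rw [← hl₁, ← hl₂]
    show F.map (l ≫ e₁ j.unop).op (F.map (D'.map a.unop).op y) = F.map (l ≫ e₂ j.unop).op (F.map (D'.map a.unop).op y)
    rw [← Functor.map_comp_apply, ← Functor.map_comp_apply, ← op_comp, ← op_comp, Category.assoc, Category.assoc,
      k₁, k₂, op_comp, op_comp, op_comp, op_comp, Functor.map_comp_apply, Functor.map_comp_apply,
      Functor.map_comp_apply, Functor.map_comp_apply]
    exact congrArg (F.map l.op) ha
  obtain ⟨t, ht, -⟩ := (Presieve.isSheafFor_arrows_iff F _).1 (hsingle j.unop) (fun _ => y') hcomp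
  have htx : F.map p.op t = x PUnit.unit := by
    rw [← hπq j.unop, op_comp, Functor.map_comp_apply, ht PUnit.unit, ← hy]
    show F.map (π' j.unop).op (F.map (D'.map a.unop).op y) = _
    rw [← Functor.map_comp_apply, ← op_comp]
    refine congrArg (fun m => F.map (Quiver.Hom.op m) y) ?_
    show (eqToHom hpt'.symm ≫ c'.π.app j.unop) ≫ D'.map a.unop = eqToHom hpt'.symm ≫ c'.π.app i
    rw [Category.assoc, c'.w]
  exact ⟨t, fun _ => htx, fun t' ht' => huniq _ _ ((ht' PUnit.unit).trans htx.symm)⟩

theorem isVSheafOver (hF : IsHSheafOver S F)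
    (hlim : ∀ (I : Type u) [SmallCategory I] [IsCofiltered I] (D : I ⥤ Over S),
      (∀ i, IsAffine (D.obj i).left) → ∀ (c : Cone D), IsLimit ((Over.forget S).mapCone c) →
        Nonempty (IsColimit (F.mapCocone c.op))) : IsVSheafOver S F :=
  isVSheafOver_of hF (isSheafFor_singleton hF hlim)

end Groth.Agent.HTopLim9
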