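import Groth.Agent.Lib.HTop26.Site

/-!
# Sheaf conditions for coverings of schemes over a base
-/

set_option autoImplicit false

universe w w' u

open CategoryTheory CategoryTheory.Limits AlgebraicGeometry Opposite HTop

namespace Groth.Agent.HTopLim9

variable {S : Scheme.{u}}

/-- The family over `S` given by a family of morphisms to the underlying scheme. -/
abbrev lift₀ (X : Over S) (E : PreZeroHypercover.{w} X.left) : PreZeroHypercover.{w} X where
  I₀ := E.I₀
  X i := Over.mk (E.f i ≫ X.hom)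
  f i := Over.homMk (E.f i)

theorem map_lift₀ (X : Over S) (E : PreZeroHypercover.{w} X.left) :
    (lift₀ X E).presieve₀.map (Over.forget S) = E.presieve₀ := by
  exact Presieve.map_ofArrows _

variable {F : (Over S)ᵒᵖ ⥤ Type w'}

theorem isSheafFor_of_isHCover (hF : IsHSheafOver S F) (X : Over S) (E : PreZeroHypercover.{w} X.left)
    (hE : IsHCover E) : (lift₀ X E).presieve₀.IsSheafFor F := by
  refine hF _ ?_
  rw [map_lift₀]
  exact (presieve₀_mem_hPrecoverage_iff E).2 hE

theorem isHCover_openCover {T : Scheme.{u}} (𝒰 : T.OpenCover) : IsHCover 𝒰.toPreZeroHypercover :=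
  ⟨fun i => by have := 𝒰.map_prop i; infer_instance, HTop26.isVCover_openCover 𝒰⟩

theorem openCover_isSheafFor (hF : IsHSheafOver S F) (X : Over S) (𝒰 : X.left.OpenCover) :
    (lift₀ X 𝒰.toPreZeroHypercover).presieve₀.IsSheafFor F :=
  isSheafFor_of_isHCover hF X _ (isHCover_openCover 𝒰)

theorem sections_ext (hF : IsHSheafOver S F) (X : Over S) (𝒰 : X.left.OpenCover) (a b : F.obj (op X))
    (h : ∀ i, F.map ((lift₀ X 𝒰.toPreZeroHypercover).f i).op a =
      F.map ((lift₀ X 𝒰.toPreZeroHypercover).f i).op b) : a = b := by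
  refine (openCover_isSheafFor hF X 𝒰).isSeparatedFor.ext ?_
  rintro V f ⟨i⟩
  exact h i

/-- The finest topology for which `F` is a sheaf. -/
abbrev top (F : (Over S)ᵒᵖ ⥤ Type w') : GrothendieckTopology (Over S) :=
  Sheaf.finestTopologySingle F

theorem isSheafFor_of_mem {X : Over S} {R : Presieve X} (h : Sieve.generate R ∈ top F X) :
    R.IsSheafFor F := by
  rw [Presieve.isSheafFor_iff_generate]
  simpa using h X (𝟙 X)

theorem mem_top_of_affine (hF : IsHSheafOver S F) {T : Over S} (R : Sieve T)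
    (h : ∀ (Z : Over S) [IsAffine Z.left] (g : Z ⟶ T),
      Presieve.IsSheafFor F (R.pullback g).arrows) : R ∈ top F T := by
  intro Y g
  let cov : ∀ W : Over S, PreZeroHypercover.{u} W := fun W => lift₀ W W.left.affineCover.toPreZeroHypercover
  haveI : ∀ (W : Over S) (i : (cov W).I₀), IsAffine ((cov W).X i).left := fun W i =>
    inferInstanceAs (IsAffine (W.left.affineCover.X i))
  have sep : ∀ (W : Over S) (k : W ⟶ T), Presieve.IsSeparatedFor F (R.pullback k).arrows := by
    intro W k x t₁ t₂ h₁ h₂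
    refine sections_ext hF W W.left.affineCover t₁ t₂ fun i => ?_
    have := h ((cov W).X i) ((cov W).f i ≫ k)
    refine this.isSeparatedFor.ext fun V f hf => ?_
    have hf' : R.pullback k (f ≫ (cov W).f i) := by
      simpa [Sieve.pullback_apply, Category.assoc] using hf
    rw [← Functor.map_comp_apply, ← Functor.map_comp_apply, ← op_comp, h₁ _ hf', h₂ _ hf']
  intro x hx
  let 𝒰 := cov Y
  have hloc : ∀ i, ∃! t : F.obj (op (𝒰.X i)), ∀ (V : Over S) (f : V ⟶ 𝒰.X i)
      (hf : R.pullback g (f ≫ 𝒰.f i)), F.map f.op t = x (f ≫ 𝒰.f i) hf := by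
    intro i
    have := h _ (𝒰.f i ≫ g)
    let y : Presieve.FamilyOfElements F (R.pullback (𝒰.f i ≫ g)).arrows := fun V f hf =>
      x (f ≫ 𝒰.f i) (by simpa [Sieve.pullback_apply, Category.assoc] using hf)
    have hy : y.Compatible := fun V₁ V₂ W g₁ g₂ f₁ f₂ h₁ h₂ he =>
      hx g₁ g₂ _ _ (by simp [reassoc_of% he])
    obtain ⟨t, ht, hu⟩ := this y hy
    refine ⟨t, fun V f hf => ht f (by simpa [Sieve.pullback_apply, Category.assoc] using hf),
      fun t' ht' => hu t' fun V f hf => ht' V f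
        (by simpa [Sieve.pullback_apply, Category.assoc] using hf)⟩
  choose t ht _ using hloc
  have hcomp : Presieve.Arrows.Compatible F 𝒰.f t := by
    intro i j W gi gj he
    refine (sep W (gi ≫ 𝒰.f i ≫ g)).ext fun V f hf => ?_
    have hi : R.pullback g ((f ≫ gi) ≫ 𝒰.f i) := by
      simpa [Sieve.pullback_apply, Category.assoc] using hf
    have hj : R.pullback g ((f ≫ gj) ≫ 𝒰.f j) := by
      rw [Category.assoc, ← he, ← Category.assoc]; exact hi
    rw [← Functor.map_comp_apply, ← Functor.map_comp_apply, ← op_comp, ← op_comp,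
      ht i _ _ hi, ht j _ _ hj]
    congr 1
    rw [Category.assoc, Category.assoc, he]
  have hz : (Presieve.ofArrows 𝒰.X 𝒰.f).IsSheafFor F := openCover_isSheafFor hF Y Y.left.affineCover
  obtain ⟨s, hs, hu⟩ := (Presieve.isSheafFor_arrows_iff F 𝒰.f).mp hz t hcomp
  refine ⟨s, fun V f hf => ?_, fun s' hs' => hu s' fun i => ?_⟩
  · let 𝒱 := Y.left.affineCover.pullback₁ f.left
    refine sections_ext hF V 𝒱 _ _ fun i => ?_
    let k := (lift₀ V 𝒱.toPreZeroHypercover).f i
    let l : (lift₀ V 𝒱.toPreZeroHypercover).X i ⟶ 𝒰.X i :=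
      Over.homMk (pullback.snd f.left (Y.left.affineCover.f i)) (by
        show pullback.snd f.left (Y.left.affineCover.f i) ≫ Y.left.affineCover.f i ≫ Y.hom =
          pullback.fst f.left (Y.left.affineCover.f i) ≫ V.hom
        rw [← pullback.condition_assoc, Over.w f])
    have hl : l ≫ 𝒰.f i = k ≫ f := Over.OverMorphism.ext pullback.condition.symm
    have h' : R.pullback g (l ≫ 𝒰.f i) := by
      rw [hl]; exact (R.pullback g).downward_closed hf k
    rw [← Functor.map_comp_apply, ← op_comp, ← hl, op_comp, Functor.map_comp_apply,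
      hs i, ht i _ _ h']
    rw [← Presieve.FamilyOfElements.comp_of_compatible (R.pullback g) hx hf k]
    congr 1
  · refine (h _ (𝒰.f i ≫ g)).isSeparatedFor.ext fun V f hf => ?_
    have hf' : R.pullback g (f ≫ 𝒰.f i) := by
      simpa [Sieve.pullback_apply, Category.assoc] using hf
    rw [← Functor.map_comp_apply, ← op_comp, hs' _ hf', ht i V f hf']

theorem pullback_generate_lift₀ {T Z : Over S} (E : PreZeroHypercover.{w} T.left) (g : Z ⟶ T) :
    (Sieve.generate (lift₀ T E).presieve₀).pullback g =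
      Sieve.generate (lift₀ Z (E.pullback₁ g.left)).presieve₀ := by
  ext W h
  constructor
  · rintro ⟨_, k, _, ⟨i⟩, hk⟩
    refine ⟨_, Over.homMk (pullback.lift h.left k.left (congrArg CommaMorphism.left hk).symm) ?_, _, ⟨i⟩,
      Over.OverMorphism.ext (pullback.lift_fst _ _ _)⟩
    show pullback.lift h.left k.left _ ≫ pullback.fst g.left (E.f i) ≫ Z.hom = W.hom
    exact (pullback.lift_fst_assoc _ _ _ _).trans (Over.w h)
  · rintro ⟨_, l, _, ⟨i⟩, rfl⟩
    refine ⟨_, l ≫ (Over.homMk (pullback.snd g.left (E.f i)) ?_ :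
      (lift₀ Z (E.pullback₁ g.left)).X i ⟶ (lift₀ T E).X i), _, ⟨i⟩, ?_⟩
    · show pullback.snd g.left (E.f i) ≫ E.f i ≫ T.hom = pullback.fst g.left (E.f i) ≫ Z.hom
      rw [← pullback.condition_assoc, Over.w g]
    · rw [Category.assoc, Category.assoc]
      exact congrArg (l ≫ ·) (Over.OverMorphism.ext pullback.condition.symm)

theorem openCover_mem_top (hF : IsHSheafOver S F) (X : Over S) (𝒰 : X.left.OpenCover) :
    Sieve.generate (lift₀ X 𝒰.toPreZeroHypercover).presieve₀ ∈ top F X := fun Z g => by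
  rw [pullback_generate_lift₀, ← Presieve.isSheafFor_iff_generate]
  exact openCover_isSheafFor hF Z (𝒰.pullback₁ g.left)

theorem exists_of_map {X : Over S} {R : Presieve X} {Q : Scheme.{u}} {q : Q ⟶ X.left}
    (h : R.map (Over.forget S) q) : ∃ (Z : Over S) (r : Z ⟶ X) (e : Q = Z.left),
      R r ∧ q = eqToHom e ≫ r.left := by
  obtain ⟨hr⟩ := h
  rename_i Z r
  exact ⟨Z, r, rfl, hr, (Category.id_comp _).symm⟩

/-- It suffices to treat single standard V coverings. -/
theorem isVSheafOver_of (hF : IsHSheafOver S F)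
    (h : ∀ (U : Over S) (V : Scheme.{u}) (f : V ⟶ U.left), IsStandardV (PreZeroHypercover.singleton.{u} f) →
      (lift₀ U (PreZeroHypercover.singleton.{u} f)).presieve₀.IsSheafFor F) :
    IsVSheafOver S F := by
  intro X R hR
  obtain ⟨E, hE, hER⟩ := PreZeroHypercoverFamily.mem_precoverage_iff.mp hR
  refine isSheafFor_of_mem ?_
  let Tp : ∀ U : X.left.affineOpens, Over S := fun U => Over.mk ((U : X.left.Opens).ι ≫ X.hom)
  have hc : TopologicalSpace.IsOpenCover (fun U : X.left.affineOpens => (U : X.left.Opens)) :=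
    TopologicalSpace.IsOpenCover.mk (iSup_affineOpens_eq_top X.left)
  refine (top F).transitive (openCover_mem_top hF X (X.left.openCoverOfIsOpenCover _ hc)) _ ?_
  rintro Y _ ⟨_, k, _, ⟨U₀⟩, rfl⟩
  rw [Sieve.pullback_comp]
  let U : X.left.affineOpens := U₀
  refine (top F).pullback_stable k ?_
  obtain ⟨G₀, hG₀, hGR⟩ := (hE : IsVCover E) U
  let T : Over S := Tp U
  let ιU : T ⟶ X := Over.homMk (U : X.left.Opens).ι
  let G : PreZeroHypercover.{u} T.left := G₀.reindex (Equiv.ulift.{u} (α := G₀.I₀))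
  have hG : IsStandardV G := HTop26.isStandardV_reindex hG₀ _
  have hle : Sieve.generate (lift₀ T G).presieve₀ ≤ (Sieve.generate R).pullback ιU := by
    rw [Sieve.generate_le_iff]
    rintro _ _ ⟨j⟩
    obtain ⟨i, a, ha⟩ := hGR j.down
    have hi : (R.map (Over.forget S)) (E.f i) := by rw [hER]; exact ⟨i⟩
    obtain ⟨Z, r, e, hr, hq⟩ := exists_of_map hi
    have ha' : (a ≫ eqToHom e) ≫ r.left = G₀.f j.down ≫ (U : X.left.Opens).ι := by
      rw [Category.assoc, ← hq]; exact ha
    refine ⟨Z, Over.homMk (a ≫ eqToHom e) ?_, r, hr, Over.OverMorphism.ext ha'⟩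
    show (a ≫ eqToHom e) ≫ Z.hom = G₀.f j.down ≫ (U : X.left.Opens).ι ≫ X.hom
    rw [← Over.w r, ← Category.assoc]
    exact (congrArg (· ≫ X.hom) ha').trans (Category.assoc _ _ _)
  refine (top F).superset_covering hle ?_
  haveI := hG.finite_index
  haveI := hG.isAffine_obj
  let d : (∐ G.X) ⟶ T.left := Sigma.desc G.f
  have hd : IsStandardV (PreZeroHypercover.singleton.{u} d) :=
    ⟨hG.isAffine, inferInstanceAs (Finite PUnit), fun _ => inferInstanceAs (IsAffine (∐ G.X)),
      HTop26.HasValLift.of_refines hG.lift fun j =>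
        ⟨PUnit.unit, Sigma.ι G.X j, (Sigma.ι_desc _ _).trans (Category.comp_id _).symm⟩⟩
  have h1 : Sieve.generate (lift₀ T (PreZeroHypercover.singleton.{u} d)).presieve₀ ∈ top F T := by
    refine mem_top_of_affine hF _ fun Z _ g => ?_
    rw [pullback_generate_lift₀, ← Presieve.isSheafFor_iff_generate]
    exact h Z _ (pullback.fst g.left d) (HTop26.isStandardV_pullback₁ g.left hd)
  refine (top F).transitive h1 _ ?_
  rintro Y' _ ⟨_, k', _, ⟨p⟩, rfl⟩
  rw [Sieve.pullback_comp]
  refine (top F).pullback_stable k' ((top F).superset_covering ?_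
    (openCover_mem_top hF ((lift₀ T (PreZeroHypercover.singleton.{u} d)).X p) (sigmaOpenCover G.X)))
  rw [Sieve.generate_le_iff]
  rintro _ _ ⟨j⟩
  let Wj := (lift₀ ((lift₀ T (PreZeroHypercover.singleton.{u} d)).X p) (sigmaOpenCover G.X).toPreZeroHypercover).X j
  refine ⟨(lift₀ T G).X j, @Over.homMk Scheme.{u} _ S Wj ((lift₀ T G).X j) (𝟙 (G.X j)) ?_, _, ⟨j⟩, Over.OverMorphism.ext ?_⟩
  · show 𝟙 _ ≫ G.f j ≫ T.hom = Sigma.ι G.X j ≫ d ≫ T.hom
    exact (Category.id_comp _).trans (Sigma.ι_desc_assoc G.f _ _).symm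
  · show 𝟙 _ ≫ G.f j = Sigma.ι G.X j ≫ d
    exact (Category.id_comp _).trans (Sigma.ι_desc G.f _).symm

end Groth.Agent.HTopLim9
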